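import Mathlib

/-!
# Field-theoretic lemmas for splitting integral algebras étale-locally (S1380)
-/

namespace Groth.Agent.H78.IntSplit

open Polynomial

/-- If the minimal polynomials of all elements of the separable closure of `k` in `E` split in
`K'`, then for `k`-embeddings `u : K' → L`, `v : E → L` a `q`-power of every `v y` lies in the
image of `u`. -/
theorem pow_mem_range_of_splits {k K' E L : Type*} [Field k] [Field K'] [Field E] [Field L]
    [Algebra k K'] [Algebra k E] [Algebra k L] [Algebra.IsAlgebraic k E]
    (q : ℕ) [ExpChar k q]
    (hs : ∀ α ∈ separableClosure k E, ((minpoly k α).map (algebraMap k K')).Splits)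
    (u : K' →ₐ[k] L) (v : E →ₐ[k] L) (y : E) :
    ∃ n : ℕ, (v y) ^ q ^ n ∈ u.range := by
  haveI : IsPurelyInseparable (separableClosure k E) E := separableClosure.isPurelyInseparable k E
  haveI : ExpChar (separableClosure k E) q :=
    expChar_of_injective_algebraMap (algebraMap k _).injective q
  obtain ⟨n, a, ha⟩ := IsPurelyInseparable.pow_mem (separableClosure k E) q y
  refine ⟨n, ?_⟩
  have h1 := hs a a.2
  have hint : IsIntegral k (v a) := (Algebra.IsIntegral.isIntegral (R := k) (a : E)).map v
  have h2 := IsIntegral.mem_range_algHom_of_minpoly_splits hint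
    (by rwa [minpoly.algHom_eq v v.injective]) u
  rw [← map_pow, ← ha]
  exact h2

universe u

/-- A finite separable extension `K` of `k` in which the minimal polynomials of all elements of
the (finite) separable closures of `k` in finitely many extensions `E x` split. -/
theorem exists_splitting_extension (k : Type u) [Field k] {ι : Type*} [Finite ι]
    (E : ι → Type*) [∀ x, Field (E x)] [∀ x, Algebra k (E x)]
    (hfin : ∀ x, Module.Finite k (separableClosure k (E x))) :
    ∃ (K : Type u) (_ : Field K) (_ : Algebra k K), Module.Finite k K ∧ Algebra.IsSeparable k K ∧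
      ∀ x, ∀ α ∈ separableClosure k (E x), ((minpoly k α).map (algebraMap k K)).Splits := by
  classical
  have hprim : ∀ x, ∃ α : separableClosure k (E x), IntermediateField.adjoin k {α} = ⊤ := by
    intro x
    haveI := hfin x
    exact Field.exists_primitive_element k (separableClosure k (E x))
  choose a ha using hprim
  let f : ι → k[X] := fun x => minpoly k (a x)
  have hfint : ∀ x, IsIntegral k (a x) := fun x =>
    haveI := hfin x
    Algebra.IsIntegral.isIntegral (a x)
  have hfsep : ∀ x, (f x).Separable := fun x =>
    Algebra.IsSeparable.isSeparable k (a x)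
  have hfirr : ∀ x, Irreducible (f x) := fun x => minpoly.irreducible (hfint x)
  have hfmonic : ∀ x, (f x).Monic := fun x => minpoly.monic (hfint x)
  let Ω := AlgebraicClosure k
  let Sset : Set Ω := ⋃ x, (f x).rootSet Ω
  haveI : Finite Sset := by
    apply Set.finite_iUnion
    intro x
    exact Polynomial.rootSet_finite _ _
  let K : IntermediateField k Ω := IntermediateField.adjoin k Sset
  have hK1 : Module.Finite k K := by
    apply IntermediateField.finiteDimensional_adjoin
    intro y _
    exact Algebra.IsIntegral.isIntegral y
  have hK2 : Algebra.IsSeparable k K := by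
    rw [IntermediateField.isSeparable_adjoin_iff_isSeparable]
    intro y hy
    obtain ⟨x, hx⟩ := Set.mem_iUnion.mp hy
    rw [Polynomial.mem_rootSet] at hx
    have : minpoly k y = f x := (minpoly.eq_of_irreducible_of_monic (hfirr x) hx.2 (hfmonic x)).symm
    change (minpoly k y).Separable
    rw [this]
    exact hfsep x
  have hK3 : ∀ x, ((f x).map (algebraMap k K)).Splits := by
    intro x
    apply IntermediateField.splits_of_splits (IsAlgClosed.splits _)
    intro y hy
    exact IntermediateField.subset_adjoin k _ (Set.mem_iUnion.mpr ⟨x, hy⟩)
  refine ⟨K, inferInstance, inferInstance, hK1, hK2, ?_⟩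
  intro x α hα
  have hmem : (⟨α, hα⟩ : separableClosure k (E x)) ∈ IntermediateField.adjoin k {a x} := by
    rw [ha x]; trivial
  have := IntermediateField.splits_of_mem_adjoin (F := k) (K := separableClosure k (E x))
    (L := K) (S := {a x}) (by
      intro z hz
      rw [Set.mem_singleton_iff] at hz
      subst hz
      exact ⟨hfint x, hK3 x⟩) hmem
  rwa [IntermediateField.minpoly_eq] at this

end Groth.Agent.H78.IntSplit
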