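import Mathlib
import Groth.Agent.S9435
import Groth.Agent.H78.IntSplit.Field

/-!
# Enlarging the residue field by an étale neighbourhood (S1380)
-/

namespace Groth.Agent.H78.IntSplit

open TensorProduct Polynomial

universe u

/-- There is an étale neighbourhood `(R₁, p₁)` of `p` whose residue field splits the separable
parts of all residue field extensions of the primes of `S` over `p`. -/
theorem exists_etale_splitsSep {R S : Type u} [CommRing R] [CommRing S] [Algebra R S]
    (p : Ideal R) [p.IsPrime] (hfin : (p.primesOver S).Finite)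
    (hsep : ∀ (q : Ideal S) [q.IsPrime] (hq : p = q.comap (algebraMap R S)),
      letI := (Ideal.ResidueField.map p q (algebraMap R S) hq).toAlgebra
      Module.Finite p.ResidueField (separableClosure p.ResidueField q.ResidueField)) :
    ∃ (R₁ : Type u) (_ : CommRing R₁) (_ : Algebra R R₁) (_ : Algebra.Etale R R₁) (p₁ : Ideal R₁)
      (_ : p₁.IsPrime) (hp₁ : p = p₁.comap (algebraMap R R₁)),
      ∀ (q : Ideal S) [q.IsPrime] (hq : p = q.comap (algebraMap R S)),
        letI := (Ideal.ResidueField.map p q (algebraMap R S) hq).toAlgebra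
        ∀ α ∈ separableClosure p.ResidueField q.ResidueField,
          ((minpoly p.ResidueField α).map
            (Ideal.ResidueField.map p p₁ (algebraMap R R₁) hp₁)).Splits := by
  classical
  let ι := {q : Ideal S // q.IsPrime ∧ p = q.comap (algebraMap R S)}
  haveI : Finite ι := by
    have : Set.Finite {q : Ideal S | q.IsPrime ∧ p = q.comap (algebraMap R S)} := by
      refine hfin.subset ?_
      rintro q ⟨h1, h2⟩
      exact ⟨h1, ⟨h2⟩⟩
    exact this.to_subtype
  let E : ι → Type u := fun x => @Ideal.ResidueField S _ x.1 x.2.1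
  letI instF : ∀ x, Field (E x) := fun x => by
    haveI := x.2.1
    exact inferInstanceAs (Field x.1.ResidueField)
  letI instA : ∀ x, Algebra p.ResidueField (E x) := fun x => by
    haveI := x.2.1
    exact (Ideal.ResidueField.map p x.1 (algebraMap R S) x.2.2).toAlgebra
  obtain ⟨K, _, _, hKfin, hKsep, hKsplit⟩ := exists_splitting_extension p.ResidueField E
    (fun x => by
      haveI := x.2.1
      exact hsep x.1 x.2.2)
  letI : Algebra R K := ((algebraMap p.ResidueField K).comp (algebraMap R p.ResidueField)).toAlgebra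
  haveI : IsScalarTower R p.ResidueField K := IsScalarTower.of_algebraMap_eq (fun _ => rfl)
  obtain ⟨R₁, _, _, _, ψ, hψ⟩ := Groth.Agent.S9435.result R p K
  let p₁ : Ideal R₁ := RingHom.ker ψ.toRingHom
  haveI hp₁prime : p₁.IsPrime := RingHom.ker_isPrime _
  have hp₁ : p = p₁.comap (algebraMap R R₁) := by
    ext x
    simp only [p₁, Ideal.mem_comap, RingHom.mem_ker]
    change _ ↔ ψ (algebraMap R R₁ x) = 0
    rw [AlgHom.commutes, IsScalarTower.algebraMap_apply R p.ResidueField K,
      map_eq_zero_iff _ (algebraMap p.ResidueField K).injective,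
      Ideal.algebraMap_residueField_eq_zero]
  refine ⟨R₁, inferInstance, inferInstance, inferInstance, p₁, hp₁prime, hp₁, ?_⟩
  -- the comparison map `κ(p₁) → K`
  let θ : p₁.ResidueField →+* K := Ideal.ResidueField.lift p₁ ψ.toRingHom le_rfl (by
    intro x hx
    simp only [Submonoid.mem_comap, IsUnit.mem_submonoid_iff]
    apply IsUnit.mk0
    exact hx)
  have hθ : ∀ x, θ (algebraMap R₁ p₁.ResidueField x) = ψ x := fun x =>
    Ideal.ResidueField.lift_algebraMap p₁ ψ.toRingHom le_rfl _ x
  have hθsurj : Function.Surjective θ := by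
    have : (⊤ : Subfield K) ≤ θ.fieldRange := by
      rw [← hψ, Subfield.closure_le]
      rintro _ ⟨x, rfl⟩
      exact ⟨algebraMap R₁ p₁.ResidueField x, hθ x⟩
    intro y
    exact this (Subfield.mem_top y)
  have hθcomp : θ.comp (Ideal.ResidueField.map p p₁ (algebraMap R R₁) hp₁) =
      algebraMap p.ResidueField K := by
    apply Ideal.ResidueField.ringHom_ext
    ext r
    simp only [RingHom.coe_comp, Function.comp_apply, Ideal.ResidueField.map_algebraMap, hθ]
    rw [AlgHom.commutes, IsScalarTower.algebraMap_apply R p.ResidueField K]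
  let θe : p₁.ResidueField ≃+* K := RingEquiv.ofBijective θ ⟨θ.injective, hθsurj⟩
  intro q _ hq α hα
  have h1 := hKsplit ⟨q, ‹_›, hq⟩ α hα
  rw [← hθcomp, ← Polynomial.map_map] at h1
  have h2 := h1.map (θe.symm : K →+* p₁.ResidueField)
  rw [Polynomial.map_map] at h2
  have : (θe.symm : K →+* p₁.ResidueField).comp θ = RingHom.id _ :=
    RingHom.ext fun x => θe.symm_apply_apply x
  rwa [this, Polynomial.map_id] at h2

/-- Finiteness of the fibre is preserved by quasi-finite (e.g. étale) base change. -/
theorem finite_primesOver_tensor {R R₁ S : Type*} [CommRing R] [CommRing R₁] [CommRing S]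
    [Algebra R R₁] [Algebra R S] [Algebra.QuasiFinite R R₁]
    (p : Ideal R) [p.IsPrime] (p₁ : Ideal R₁) [p₁.IsPrime] [p₁.LiesOver p]
    (hfin : (p.primesOver S).Finite) :
    (p₁.primesOver (R₁ ⊗[R] S)).Finite := by
  let c : S ⊗[R] R₁ ≃ₐ[R] R₁ ⊗[R] S := Algebra.TensorProduct.comm R S R₁
  have hF : {x : PrimeSpectrum S | x.asIdeal ∈ p.primesOver S}.Finite :=
    hfin.preimage (fun x _ y _ h => PrimeSpectrum.ext h)
  have h2 := Algebra.QuasiFinite.finite_comap_preimage (R := S) (S := S ⊗[R] R₁) hF
  refine (h2.image (fun x : PrimeSpectrum (S ⊗[R] R₁) => x.asIdeal.comap c.symm)).subset ?_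
  rintro Q ⟨hQ1, hQ2⟩
  haveI := hQ1
  haveI := hQ2
  haveI : Q.LiesOver p := Ideal.LiesOver.trans Q p₁ p
  refine ⟨⟨Q.comap c, inferInstance⟩, ?_, ?_⟩
  · simp only [Set.mem_preimage, Set.mem_ofPred_eq]
    refine ⟨inferInstance, ?_⟩
    change (Ideal.comap (Algebra.TensorProduct.includeLeft : S →ₐ[R] S ⊗[R] R₁)
      (Q.comap c)).LiesOver p
    infer_instance
  · ext x
    simp [Ideal.mem_comap]

end Groth.Agent.H78.IntSplit
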