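import Mathlib
import Groth.Agent.H78.IntSplit.Field

/-!
# Purely inseparable residue field extensions: elementwise criteria (S1380)
-/

namespace Groth.Agent.H78.IntSplit

open Polynomial TensorProduct

attribute [local instance] Localization.AtPrime.algebraOfLiesOver in
theorem isAlgebraic_toAlgebra {R S : Type*} [CommRing R] [CommRing S] [Algebra R S]
    [Algebra.IsIntegral R S] (p : Ideal R) [p.IsPrime] (q : Ideal S) [q.IsPrime]
    (hq : p = q.comap (algebraMap R S)) :
    letI := (Ideal.ResidueField.map p q (algebraMap R S) hq).toAlgebra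
    Algebra.IsAlgebraic p.ResidueField q.ResidueField := by
  haveI : q.LiesOver p := ⟨hq⟩
  have : (Ideal.ResidueField.map p q (algebraMap R S) hq).toAlgebra =
      (inferInstance : Algebra p.ResidueField q.ResidueField) := by
    apply Algebra.algebra_ext
    intro r
    rfl
  rw [this]
  infer_instance

/-- Elementwise criterion for a residue field extension to be purely inseparable. -/
theorem isPurelyInseparable_of_pow_mem {A B : Type*} [CommRing A] [CommRing B] (f : A →+* B)
    (I : Ideal A) [I.IsPrime] (J : Ideal B) [J.IsPrime] (hf : I = J.comap f)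
    (q : ℕ) [ExpChar I.ResidueField q]
    (h : ∀ b : B, ∃ n : ℕ, (algebraMap B J.ResidueField b) ^ q ^ n ∈
      (Ideal.ResidueField.map I J f hf).range) :
    letI := (Ideal.ResidueField.map I J f hf).toAlgebra
    IsPurelyInseparable I.ResidueField J.ResidueField := by
  letI := (Ideal.ResidueField.map I J f hf).toAlgebra
  rw [isPurelyInseparable_iff_perfectClosure_eq_top, eq_top_iff]
  intro x _
  obtain ⟨a, b, hb, rfl⟩ := IsFractionRing.div_surjective (A := B ⧸ J) x
  have key : ∀ c : B ⧸ J, algebraMap (B ⧸ J) J.ResidueField c ∈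
      perfectClosure I.ResidueField J.ResidueField := by
    intro c
    obtain ⟨c, rfl⟩ := Ideal.Quotient.mk_surjective c
    rw [mem_perfectClosure_iff_pow_mem q]
    obtain ⟨n, hn⟩ := h c
    refine ⟨n, ?_⟩
    rw [Ideal.algebraMap_quotient_residueField_mk]
    exact hn
  exact div_mem (key a) (key b)

/-- Converse direction, elementwise. -/
theorem pow_mem_of_isPurelyInseparable {A B : Type*} [CommRing A] [CommRing B] (f : A →+* B)
    (I : Ideal A) [I.IsPrime] (J : Ideal B) [J.IsPrime] (hf : I = J.comap f)
    (q : ℕ) [ExpChar I.ResidueField q]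
    (h : letI := (Ideal.ResidueField.map I J f hf).toAlgebra
      IsPurelyInseparable I.ResidueField J.ResidueField) (x : J.ResidueField) :
    ∃ n : ℕ, x ^ q ^ n ∈ (Ideal.ResidueField.map I J f hf).range := by
  letI := (Ideal.ResidueField.map I J f hf).toAlgebra
  exact IsPurelyInseparable.pow_mem I.ResidueField q x

/-- The key computation: in a residue field of `R' ⊗[R] S` (with `S` integral over `R`), a
`q`-power of every element comes from the residue field of `R'`, provided the latter splits the
separable parts of the residue field extension of `S`. -/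
theorem pow_mem_range_tensor {R R' S : Type*} [CommRing R] [CommRing R'] [CommRing S]
    [Algebra R R'] [Algebra R S] [Algebra.IsIntegral R S]
    (p : Ideal R) [p.IsPrime] (P : Ideal R') [P.IsPrime] (q : Ideal S) [q.IsPrime]
    (Q : Ideal (R' ⊗[R] S)) [Q.IsPrime]
    (hP : p = P.comap (algebraMap R R')) (hq : p = q.comap (algebraMap R S))
    (hQP : P = Q.comap (algebraMap R' (R' ⊗[R] S)))
    (hQq : q = Q.comap (Algebra.TensorProduct.includeRight : S →ₐ[R] R' ⊗[R] S).toRingHom)
    (qq : ℕ) [ExpChar p.ResidueField qq]
    (hsplit : letI := (Ideal.ResidueField.map p q (algebraMap R S) hq).toAlgebra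
      ∀ α ∈ separableClosure p.ResidueField q.ResidueField,
        ((minpoly p.ResidueField α).map
          (Ideal.ResidueField.map p P (algebraMap R R') hP)).Splits)
    (t : R' ⊗[R] S) :
    ∃ n : ℕ, (algebraMap (R' ⊗[R] S) Q.ResidueField t) ^ qq ^ n ∈
      (Ideal.ResidueField.map P Q (algebraMap R' (R' ⊗[R] S)) hQP).range := by
  set φP := Ideal.ResidueField.map p P (algebraMap R R') hP with hφP
  set φq := Ideal.ResidueField.map p q (algebraMap R S) hq with hφq
  set ψP := Ideal.ResidueField.map P Q (algebraMap R' (R' ⊗[R] S)) hQP with hψP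
  set ψq := Ideal.ResidueField.map q Q
    (Algebra.TensorProduct.includeRight : S →ₐ[R] R' ⊗[R] S).toRingHom hQq with hψq
  have sq : ψq.comp φq = ψP.comp φP := by
    apply Ideal.ResidueField.ringHom_ext
    ext r
    simp only [RingHom.coe_comp, Function.comp_apply, hφP, hφq, hψP, hψq,
      Ideal.ResidueField.map_algebraMap]
    congr 1
    change (Algebra.TensorProduct.includeRight : S →ₐ[R] R' ⊗[R] S) (algebraMap R S r) = _
    rw [AlgHom.commutes, ← IsScalarTower.algebraMap_apply]
  letI a1 : Algebra p.ResidueField P.ResidueField := φP.toAlgebra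
  letI a2 : Algebra p.ResidueField q.ResidueField := φq.toAlgebra
  letI a3 : Algebra p.ResidueField Q.ResidueField := (ψP.comp φP).toAlgebra
  letI a4 : Algebra P.ResidueField Q.ResidueField := ψP.toAlgebra
  let u : P.ResidueField →ₐ[p.ResidueField] Q.ResidueField := { ψP with commutes' := fun r => rfl }
  have hv : ∀ r : p.ResidueField, ψq (φq r) = ψP (φP r) := fun r => RingHom.congr_fun sq r
  let v : q.ResidueField →ₐ[p.ResidueField] Q.ResidueField := { ψq with commutes' := hv }
  haveI : Algebra.IsAlgebraic p.ResidueField q.ResidueField := isAlgebraic_toAlgebra p q hq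
  haveI : ExpChar P.ResidueField qq := expChar_of_injective_ringHom φP.injective qq
  have hM : ∀ t : R' ⊗[R] S, algebraMap (R' ⊗[R] S) Q.ResidueField t ∈
      perfectClosure P.ResidueField Q.ResidueField := by
    intro t
    induction t using TensorProduct.induction_on with
    | zero => simp
    | add x y hx hy => rw [map_add]; exact add_mem hx hy
    | tmul a s =>
      have e : (a ⊗ₜ[R] s : R' ⊗[R] S) = algebraMap R' (R' ⊗[R] S) a *
          (Algebra.TensorProduct.includeRight : S →ₐ[R] R' ⊗[R] S) s := by
        simp [Algebra.TensorProduct.algebraMap_apply]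
      rw [e, map_mul]
      apply mul_mem
      · have : algebraMap (R' ⊗[R] S) Q.ResidueField (algebraMap R' (R' ⊗[R] S) a) =
            ψP (algebraMap R' P.ResidueField a) := by
          rw [hψP, Ideal.ResidueField.map_algebraMap]
        rw [this]
        exact (perfectClosure P.ResidueField Q.ResidueField).algebraMap_mem _
      · have : algebraMap (R' ⊗[R] S) Q.ResidueField
            ((Algebra.TensorProduct.includeRight : S →ₐ[R] R' ⊗[R] S) s) =
            v (algebraMap S q.ResidueField s) := by
          change _ = ψq _
          rw [hψq, Ideal.ResidueField.map_algebraMap]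
          rfl
        rw [this, mem_perfectClosure_iff_pow_mem qq]
        obtain ⟨n, hn⟩ := pow_mem_range_of_splits (k := p.ResidueField) (K' := P.ResidueField)
          (E := q.ResidueField) (L := Q.ResidueField) qq hsplit u v (algebraMap S q.ResidueField s)
        exact ⟨n, hn⟩
  have := hM t
  rw [mem_perfectClosure_iff_pow_mem qq] at this
  exact this

/-- The splitting hypothesis is inherited along further extensions of the base. -/
theorem splits_of_tower {R R₁ R' : Type*} [CommRing R] [CommRing R₁] [CommRing R']
    [Algebra R R₁] [Algebra R₁ R'] [Algebra R R'] [IsScalarTower R R₁ R']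
    (p : Ideal R) [p.IsPrime] (p₁ : Ideal R₁) [p₁.IsPrime] (P : Ideal R') [P.IsPrime]
    (hp₁ : p = p₁.comap (algebraMap R R₁)) (hP₁ : p₁ = P.comap (algebraMap R₁ R'))
    (hP : p = P.comap (algebraMap R R'))
    (f : Polynomial p.ResidueField)
    (h : (f.map (Ideal.ResidueField.map p p₁ (algebraMap R R₁) hp₁)).Splits) :
    (f.map (Ideal.ResidueField.map p P (algebraMap R R') hP)).Splits := by
  have e : Ideal.ResidueField.map p P (algebraMap R R') hP =
      (Ideal.ResidueField.map p₁ P (algebraMap R₁ R') hP₁).comp
        (Ideal.ResidueField.map p p₁ (algebraMap R R₁) hp₁) := by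
    apply Ideal.ResidueField.ringHom_ext
    ext r
    simp only [RingHom.coe_comp, Function.comp_apply, Ideal.ResidueField.map_algebraMap]
    rw [← IsScalarTower.algebraMap_apply R R₁ R', ← IsScalarTower.algebraMap_apply R R' P.ResidueField]
  rw [e, ← Polynomial.map_map]
  exact h.map _

/-- Purely inseparable residue field extension for a quotient of `R' ⊗[R] S`. -/
theorem isPurelyInseparable_of_surjective_tensor {R R' S B : Type*} [CommRing R] [CommRing R']
    [CommRing S] [CommRing B] [Algebra R R'] [Algebra R S] [Algebra R' B] [Algebra.IsIntegral R S]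
    (π : R' ⊗[R] S →ₐ[R'] B) (hπ : Function.Surjective π)
    (p : Ideal R) [p.IsPrime] (P : Ideal R') [P.IsPrime] (r : Ideal B) [r.IsPrime]
    (hP : p = P.comap (algebraMap R R')) (hr : P = r.comap (algebraMap R' B))
    (hsplit : ∀ (q : Ideal S) [q.IsPrime] (hq : p = q.comap (algebraMap R S)),
      letI := (Ideal.ResidueField.map p q (algebraMap R S) hq).toAlgebra
      ∀ α ∈ separableClosure p.ResidueField q.ResidueField,
        ((minpoly p.ResidueField α).map
          (Ideal.ResidueField.map p P (algebraMap R R') hP)).Splits) :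
    letI := (Ideal.ResidueField.map P r (algebraMap R' B) hr).toAlgebra
    IsPurelyInseparable P.ResidueField r.ResidueField := by
  let qq := ringExpChar p.ResidueField
  haveI : ExpChar p.ResidueField qq := ringExpChar.expChar _
  haveI : ExpChar P.ResidueField qq :=
    expChar_of_injective_ringHom (Ideal.ResidueField.map p P (algebraMap R R') hP).injective qq
  apply isPurelyInseparable_of_pow_mem (algebraMap R' B) P r hr qq
  intro b
  obtain ⟨t, rfl⟩ := hπ b
  let Q : Ideal (R' ⊗[R] S) := r.comap π
  have hQP : P = Q.comap (algebraMap R' (R' ⊗[R] S)) := by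
    rw [hr]
    ext x
    simp only [Q, Ideal.mem_comap, AlgHom.commutes]
  let q : Ideal S := Q.comap (Algebra.TensorProduct.includeRight : S →ₐ[R] R' ⊗[R] S).toRingHom
  have hq : p = q.comap (algebraMap R S) := by
    rw [hP, hQP]
    ext x
    simp only [q, Ideal.mem_comap]
    have : (Algebra.TensorProduct.includeRight : S →ₐ[R] R' ⊗[R] S).toRingHom (algebraMap R S x) =
        algebraMap R' (R' ⊗[R] S) (algebraMap R R' x) := by
      change (Algebra.TensorProduct.includeRight : S →ₐ[R] R' ⊗[R] S) (algebraMap R S x) = _
      rw [AlgHom.commutes, ← IsScalarTower.algebraMap_apply]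
    rw [this]
  obtain ⟨n, y, hy⟩ := pow_mem_range_tensor p P q Q hP hq hQP rfl qq (hsplit q hq) t
  refine ⟨n, y, ?_⟩
  let ρ : Q.ResidueField →+* r.ResidueField := Ideal.ResidueField.map Q r π.toRingHom rfl
  have hρ : ∀ x, ρ (algebraMap (R' ⊗[R] S) Q.ResidueField x) = algebraMap B r.ResidueField (π x) :=
    fun x => Ideal.ResidueField.map_algebraMap Q r π.toRingHom rfl x
  have h1 : ρ.comp (Ideal.ResidueField.map P Q (algebraMap R' (R' ⊗[R] S)) hQP) =
      Ideal.ResidueField.map P r (algebraMap R' B) hr := by
    apply Ideal.ResidueField.ringHom_ext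
    ext a
    simp only [RingHom.coe_comp, Function.comp_apply, Ideal.ResidueField.map_algebraMap]
    rw [hρ, π.commutes a]
  rw [← hρ, ← map_pow, ← hy, ← h1]
  rfl

end Groth.Agent.H78.IntSplit
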