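import Mathlib

/-!
# Étale-local splitting of an integral algebra at a prime with finite fibre (S1380)
-/

namespace Groth.Agent.H78.IntSplit

open TensorProduct

universe u

/-- A finite subalgebra separating the finitely many primes over `p`. -/
theorem exists_separating_subalgebra {R S : Type*} [CommRing R] [CommRing S] [Algebra R S]
    [Algebra.IsIntegral R S] (p : Ideal R) [p.IsPrime] (hfin : (p.primesOver S).Finite) :
    ∃ S₀ : Subalgebra R S, Module.Finite R S₀ ∧ ∀ q ∈ p.primesOver S, ∀ q' ∈ p.primesOver S,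
      q.comap S₀.val = q'.comap S₀.val → q = q' := by
  classical
  let sel : Ideal S → Ideal S → S := fun q q' =>
    if h : ∃ s, s ∈ q ∧ s ∉ q' then h.choose else 0
  let G : Set S := (fun x : Ideal S × Ideal S => sel x.1 x.2) '' ((p.primesOver S) ×ˢ (p.primesOver S))
  have hG : G.Finite := (hfin.prod hfin).image _
  refine ⟨Algebra.adjoin R G, Algebra.finite_adjoin_of_finite_of_isIntegral hG
    (fun x _ => Algebra.IsIntegral.isIntegral x), ?_⟩
  intro q hq q' hq' hqq'
  by_contra hne
  have hnle : ¬ q ≤ q' := by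
    intro hle
    have hlt : q < q' := lt_of_le_of_ne hle hne
    haveI := hq.1
    have := Ideal.IsIntegral.comap_lt_comap (R := R) hlt
    have h1 : q.comap (algebraMap R S) = p := (hq.2.over).symm
    have h2 : q'.comap (algebraMap R S) = p := (hq'.2.over).symm
    rw [h1, h2] at this
    exact lt_irrefl _ this
  have hex : ∃ s, s ∈ q ∧ s ∉ q' := by
    by_contra h
    push Not at h
    exact hnle fun s hs => h s hs
  have hsel : sel q q' ∈ q ∧ sel q q' ∉ q' := by
    simp only [sel, dif_pos hex]
    exact hex.choose_spec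
  have hmem : sel q q' ∈ Algebra.adjoin R G :=
    Algebra.subset_adjoin ⟨(q, q'), ⟨hq, hq'⟩, rfl⟩
  have h1 : (⟨sel q q', hmem⟩ : Algebra.adjoin R G) ∈ q.comap (Algebra.adjoin R G).val := hsel.1
  rw [hqq'] at h1
  exact hsel.2 h1

/-- If no prime of `S` lies over `p`, then `S` vanishes on a principal open neighbourhood. -/
theorem exists_etale_of_empty {R S : Type u} [CommRing R] [CommRing S] [Algebra R S]
    [Algebra.IsIntegral R S] (p : Ideal R) [p.IsPrime] (hempty : ¬ (p.primesOver S).Nonempty) :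
    ∃ (R' : Type u) (_ : CommRing R') (_ : Algebra R R') (_ : Algebra.Etale R R') (P : Ideal R')
      (_ : P.IsPrime) (_ : P.LiesOver p), Subsingleton (R' ⊗[R] S) := by
  have hker : ¬ RingHom.ker (algebraMap R S) ≤ p := by
    intro hle
    obtain ⟨Q, -, hQ1, hQ2⟩ := Ideal.exists_ideal_over_prime_of_isIntegral p (⊥ : Ideal S)
      (by simpa [← RingHom.ker_eq_comap_bot] using hle)
    exact hempty ⟨Q, hQ1, ⟨hQ2.symm⟩⟩
  obtain ⟨g, hgker, hgp⟩ := SetLike.not_le_iff_exists.mp hker
  have hdisj : Disjoint (Submonoid.powers g : Set R) ↑p := by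
    rwa [Ideal.disjoint_powers_iff_notMem_of_isPrime]
  refine ⟨Localization.Away g, inferInstance, inferInstance, inferInstance,
    p.map (algebraMap R (Localization.Away g)),
    IsLocalization.isPrime_of_isPrime_disjoint (Submonoid.powers g) _ _ ‹_› hdisj,
    IsLocalization.liesOver_map_of_isPrime_disjoint (Submonoid.powers g) _ hdisj, ?_⟩
  have hu : IsUnit (algebraMap R (Localization.Away g ⊗[R] S) g) := by
    rw [IsScalarTower.algebraMap_apply R (Localization.Away g) (Localization.Away g ⊗[R] S)]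
    exact (IsLocalization.Away.algebraMap_isUnit g).map _
  have h0 : algebraMap R (Localization.Away g ⊗[R] S) g = 0 := by
    have : algebraMap R (Localization.Away g ⊗[R] S) g =
        (Algebra.TensorProduct.includeRight : S →ₐ[R] Localization.Away g ⊗[R] S)
          (algebraMap R S g) := (AlgHom.commutes _ g).symm
    rw [this, show algebraMap R S g = 0 from hgker, map_zero]
  rw [h0, isUnit_zero_iff] at hu
  exact subsingleton_of_zero_eq_one hu

set_option maxHeartbeats 800000 in
/-- Étale-local splitting when the fibre is nonempty. -/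
theorem exists_etale_split_of_nonempty {R S : Type u} [CommRing R] [CommRing S] [Algebra R S]
    [Algebra.IsIntegral R S] (p : Ideal R) [p.IsPrime] (hfin : (p.primesOver S).Finite)
    (hne : (p.primesOver S).Nonempty) :
    ∃ (R' : Type u) (_ : CommRing R') (_ : Algebra R R') (_ : Algebra.Etale R R') (P : Ideal R')
      (_ : P.IsPrime) (_ : P.LiesOver p) (m : ℕ) (E : Fin m → R' ⊗[R] S),
      CompleteOrthogonalIdempotents E ∧
      ∀ j, ∃ Q : Ideal (R' ⊗[R] S), Q.IsPrime ∧ Q.LiesOver P ∧ E j ∉ Q ∧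
        ∀ Q' : Ideal (R' ⊗[R] S), Q'.IsPrime → Q'.LiesOver P → E j ∉ Q' → Q' = Q := by
  classical
  obtain ⟨S₀, hS₀fin, hsep⟩ := exists_separating_subalgebra p hfin
  haveI := hS₀fin
  obtain ⟨R', _, _, _, P, _, _, n, e, he, P', hP'prime, hP'lies, hbij, heP', H⟩ :=
    Algebra.exists_etale_completeOrthogonalIdempotents_forall_liesOver_eq (R := R) (S := S₀) p
  let ι : R' ⊗[R] S₀ →ₐ[R'] R' ⊗[R] S := Algebra.TensorProduct.map (AlgHom.id R' R') S₀.val
  -- F1: structure of contractions
  have F1 : ∀ (Q : Ideal (R' ⊗[R] S)) [Q.IsPrime] [Q.LiesOver P],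
      e (Fin.last n) ∈ Q.comap ι ∧ ∀ i, e i.castSucc ∉ Q.comap ι → Q.comap ι = P' i := by
    intro Q _ _
    exact H (Q.comap ι) inferInstance inferInstance
  -- F2: a prime over `P` is determined by its contraction along `ι`
  have F2 : ∀ (Q Q' : Ideal (R' ⊗[R] S)) [Q.IsPrime] [Q.LiesOver P] [Q'.IsPrime] [Q'.LiesOver P],
      Q.comap ι = Q'.comap ι → Q = Q' := by
    intro Q Q' _ _ _ _ hQQ'
    haveI : Q.LiesOver p := Ideal.LiesOver.trans Q P p
    haveI : Q'.LiesOver p := Ideal.LiesOver.trans Q' P p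
    let incR : S →ₐ[R] R' ⊗[R] S := Algebra.TensorProduct.includeRight
    have hq : Q.comap incR ∈ p.primesOver S := ⟨inferInstance, inferInstance⟩
    have hq' : Q'.comap incR ∈ p.primesOver S := ⟨inferInstance, inferInstance⟩
    have hcomp : (ι.restrictScalars R).comp (Algebra.TensorProduct.includeRight :
        S₀ →ₐ[R] R' ⊗[R] S₀) = incR.comp S₀.val := by
      ext x
      simp [ι, incR]
    have key : ∀ Q₁ : Ideal (R' ⊗[R] S), (Q₁.comap incR).comap S₀.val =
        (Q₁.comap ι).comap (Algebra.TensorProduct.includeRight : S₀ →ₐ[R] R' ⊗[R] S₀) := by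
      intro Q₁
      ext x
      simp only [Ideal.mem_comap]
      have := AlgHom.congr_fun hcomp x
      simp only [AlgHom.comp_apply, AlgHom.restrictScalars_apply] at this
      rw [this]
    have heq : Q.comap incR = Q'.comap incR := by
      apply hsep _ hq _ hq'
      rw [key Q, key Q', hQQ']
    exact Ideal.eq_of_comap_eq_comap_of_bijective_residueFieldMap hbij Q Q' heq
  -- F3: existence of primes over each `P' i`
  have F3 : ∀ i : Fin n, ∃ Q : Ideal (R' ⊗[R] S), Q.IsPrime ∧ Q.LiesOver P ∧ Q.comap ι = P' i := by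
    intro i
    letI algι : Algebra (R' ⊗[R] S₀) (R' ⊗[R] S) := ι.toRingHom.toAlgebra
    haveI : IsScalarTower R' (R' ⊗[R] S₀) (R' ⊗[R] S) :=
      .of_algebraMap_eq' ι.comp_algebraMap.symm
    haveI : Algebra.IsIntegral (R' ⊗[R] S₀) (R' ⊗[R] S) := Algebra.IsIntegral.tower_top (R := R')
    have hinj : Function.Injective ι := by
      have : (ι : R' ⊗[R] S₀ → R' ⊗[R] S) = (S₀.val.toLinearMap.lTensor R') := by
        ext x
        induction x using TensorProduct.induction_on with
        | zero => simp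
        | tmul a b => simp [ι]
        | add x y hx hy => rw [map_add, map_add, hx, hy]
      rw [this]
      exact Module.Flat.lTensor_preserves_injective_linearMap _ Subtype.val_injective
    haveI := hP'prime i
    haveI := hP'lies i
    obtain ⟨Q, -, hQ1, hQ2⟩ := Ideal.exists_ideal_over_prime_of_isIntegral (P' i)
      (⊥ : Ideal (R' ⊗[R] S)) (by
        rw [← RingHom.ker_eq_comap_bot]
        have : RingHom.ker (algebraMap (R' ⊗[R] S₀) (R' ⊗[R] S)) = ⊥ :=
          (RingHom.injective_iff_ker_eq_bot _).mp hinj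
        rw [this]
        exact bot_le)
    have hQ2' : Q.comap ι = P' i := hQ2
    refine ⟨Q, hQ1, ⟨?_⟩, hQ2'⟩
    have h1 : (Q.comap ι).under R' = Q.under R' := by
      ext x
      simp only [Ideal.under, Ideal.mem_comap]
      rw [AlgHom.commutes]
    rw [← h1, hQ2']
    exact (P' i).over_def P
  -- F4: `n ≠ 0`
  have hn0 : n ≠ 0 := by
    rintro rfl
    obtain ⟨q, hq⟩ := hne
    let Fiso := Ideal.fiberIsoOfBijectiveResidueField hbij (S := S)
    let Q := Fiso.symm ⟨q, hq⟩
    haveI : Q.1.IsPrime := Q.2.1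
    haveI : Q.1.LiesOver P := Q.2.2
    obtain ⟨hlast, -⟩ := F1 Q.1
    have h1 : (1 : R' ⊗[R] S₀) = e (Fin.last 0) := by
      rw [← he.complete]
      simp
    rw [← h1] at hlast
    exact (Ideal.comap_isPrime ι Q.1).ne_top ((Ideal.eq_top_iff_one _).mpr hlast)
  obtain ⟨n', rfl⟩ := Nat.exists_eq_succ_of_ne_zero hn0
  have hidem : CompleteOrthogonalIdempotents (ι ∘ e) := he.map ι.toRingHom
  let c : R' ⊗[R] S := ι (e (Fin.last (n' + 1)))
  let a : Fin (n' + 1) → R' ⊗[R] S := fun j => ι (e j.castSucc)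
  let E : Fin (n' + 1) → R' ⊗[R] S := fun j => a j + if j = 0 then c else 0
  have haa : ∀ j j', j ≠ j' → a j * a j' = 0 := fun j j' h =>
    hidem.ortho ((Fin.castSucc_injective _).ne h)
  have hac : ∀ j, a j * c = 0 := fun j => hidem.ortho (Fin.castSucc_lt_last j).ne
  have hca : ∀ j, c * a j = 0 := fun j => by rw [mul_comm]; exact hac j
  have hE : CompleteOrthogonalIdempotents E := by
    rw [CompleteOrthogonalIdempotents.iff_ortho_complete]
    constructor
    · intro j j' hjj'
      simp only [E]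
      split_ifs with h1 h2 h2
      · exact absurd (h1.trans h2.symm) hjj'
      · linear_combination haa j j' hjj' + hca j'
      · linear_combination haa j j' hjj' + hac j
      · linear_combination haa j j' hjj'
    · have h1 : ∑ i, (ι ∘ e) i = 1 := hidem.complete
      rw [Fin.sum_univ_castSucc] at h1
      simp only [E, Finset.sum_add_distrib, Finset.sum_ite_eq', Finset.mem_univ, if_true]
      exact h1
  refine ⟨R', inferInstance, inferInstance, inferInstance, P, inferInstance, inferInstance,
    n' + 1, E, hE, ?_⟩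
  intro j
  obtain ⟨Q, hQp, hQl, hQι⟩ := F3 j
  haveI := hQp
  haveI := hQl
  have hcQ : ∀ (Q₁ : Ideal (R' ⊗[R] S)) [Q₁.IsPrime] [Q₁.LiesOver P], c ∈ Q₁ := by
    intro Q₁ _ _
    exact (F1 Q₁).1
  have hite : ∀ (Q₁ : Ideal (R' ⊗[R] S)) [Q₁.IsPrime] [Q₁.LiesOver P],
      (if j = 0 then c else 0) ∈ Q₁ := by
    intro Q₁ _ _
    split_ifs
    · exact hcQ Q₁
    · exact Q₁.zero_mem
  have haQ : a j ∉ Q := by
    intro h
    have : e j.castSucc ∈ Q.comap ι := h
    rw [hQι] at this
    exact heP' j this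
  refine ⟨Q, hQp, hQl, ?_, ?_⟩
  · intro h
    apply haQ
    have : a j = E j - (if j = 0 then c else 0) := by simp [E]
    rw [this]
    exact Q.sub_mem h (hite Q)
  · intro Q' hQ'p hQ'l hEQ'
    haveI := hQ'p
    haveI := hQ'l
    have haQ' : e j.castSucc ∉ Q'.comap ι := by
      intro h
      apply hEQ'
      exact Q'.add_mem h (hite Q')
    have := (F1 Q').2 j haQ'
    exact F2 Q' Q (this.trans hQι.symm)

/-- Étale-local splitting of an integral algebra with finite fibre over `p`. -/
theorem exists_etale_split {R S : Type u} [CommRing R] [CommRing S] [Algebra R S]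
    [Algebra.IsIntegral R S] (p : Ideal R) [p.IsPrime] (hfin : (p.primesOver S).Finite) :
    ∃ (R' : Type u) (_ : CommRing R') (_ : Algebra R R') (_ : Algebra.Etale R R') (P : Ideal R')
      (_ : P.IsPrime) (_ : P.LiesOver p) (m : ℕ) (E : Fin m → R' ⊗[R] S),
      CompleteOrthogonalIdempotents E ∧
      ∀ j, ∃ Q : Ideal (R' ⊗[R] S), Q.IsPrime ∧ Q.LiesOver P ∧ E j ∉ Q ∧
        ∀ Q' : Ideal (R' ⊗[R] S), Q'.IsPrime → Q'.LiesOver P → E j ∉ Q' → Q' = Q := by
  by_cases hne : (p.primesOver S).Nonempty
  · exact exists_etale_split_of_nonempty p hfin hne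
  · obtain ⟨R', _, _, _, P, _, _, hsub⟩ := exists_etale_of_empty (S := S) p hne
    refine ⟨R', inferInstance, inferInstance, inferInstance, P, inferInstance, inferInstance, 0,
      fun j => j.elim0, ?_, fun j => j.elim0⟩
    rw [CompleteOrthogonalIdempotents.iff_ortho_complete]
    exact ⟨fun j => j.elim0, Subsingleton.elim _ _⟩

end Groth.Agent.H78.IntSplit
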