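import Mathlib
import Groth.Agent.H78.IntSplit.PI
import Groth.Agent.H78.IntSplit.Split
import Groth.Agent.H78.IntSplit.Enlarge

/-!
# Assembly for S1380
-/

namespace Groth.Agent.H78.IntSplit

open TensorProduct Polynomial

universe u

set_option maxHeartbeats 800000 in
theorem assemble {R R₁ R' S : Type u} [CommRing R] [CommRing R₁] [CommRing R'] [CommRing S]
    [Algebra R R₁] [Algebra R₁ R'] [Algebra R R'] [IsScalarTower R R₁ R'] [Algebra R S]
    [Algebra.IsIntegral R S]
    (p : Ideal R) [p.IsPrime] (p₁ : Ideal R₁) [p₁.IsPrime] (P : Ideal R') [P.IsPrime]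
    (hp₁ : p = p₁.comap (algebraMap R R₁)) [P.LiesOver p₁]
    (hsplit₁ : ∀ (q : Ideal S) [q.IsPrime] (hq : p = q.comap (algebraMap R S)),
      letI := (Ideal.ResidueField.map p q (algebraMap R S) hq).toAlgebra
      ∀ α ∈ separableClosure p.ResidueField q.ResidueField,
        ((minpoly p.ResidueField α).map
          (Ideal.ResidueField.map p p₁ (algebraMap R R₁) hp₁)).Splits)
    (m : ℕ) (E : Fin m → R' ⊗[R₁] (R₁ ⊗[R] S)) (hE : CompleteOrthogonalIdempotents E)
    (hprimes : ∀ j, ∃ Q : Ideal (R' ⊗[R₁] (R₁ ⊗[R] S)), Q.IsPrime ∧ Q.LiesOver P ∧ E j ∉ Q ∧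
      ∀ Q' : Ideal (R' ⊗[R₁] (R₁ ⊗[R] S)), Q'.IsPrime → Q'.LiesOver P → E j ∉ Q' → Q' = Q) :
    ∃ (A : Fin m → Type u) (_ : ∀ j, CommRing (A j)) (_ : ∀ j, Algebra R' (A j))
      (_ : R' ⊗[R] S ≃ₐ[R'] (Π j, A j)),
      ∀ j, Algebra.IsIntegral R' (A j) ∧ ∃ (r : PrimeSpectrum (A j))
        (hr : r.asIdeal.comap (algebraMap R' (A j)) = P),
        (∀ r' : PrimeSpectrum (A j), r'.asIdeal.comap (algebraMap R' (A j)) = P → r' = r) ∧
        letI := (Ideal.ResidueField.map P r.asIdeal (algebraMap R' (A j)) hr.symm).toAlgebra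
        IsPurelyInseparable P.ResidueField r.asIdeal.ResidueField := by
  have hP₁ : p₁ = P.comap (algebraMap R₁ R') := P.over_def p₁
  have hP : p = P.comap (algebraMap R R') := by
    rw [hp₁, hP₁, IsScalarTower.algebraMap_eq R R₁ R', ← Ideal.comap_comap]
  have hsplit : ∀ (q : Ideal S) [q.IsPrime] (hq : p = q.comap (algebraMap R S)),
      letI := (Ideal.ResidueField.map p q (algebraMap R S) hq).toAlgebra
      ∀ α ∈ separableClosure p.ResidueField q.ResidueField,
        ((minpoly p.ResidueField α).map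
          (Ideal.ResidueField.map p P (algebraMap R R') hP)).Splits := by
    intro q _ hq α hα
    exact splits_of_tower p p₁ P hp₁ hP₁ hP _ (hsplit₁ q hq α hα)
  let T := R' ⊗[R₁] (R₁ ⊗[R] S)
  let A : Fin m → Type u := fun j => T ⧸ Ideal.span {1 - E j}
  let ec : T ≃ₐ[R'] R' ⊗[R] S := Algebra.TensorProduct.cancelBaseChange R R₁ R' R' S
  let e₀ : T ≃ₐ[R'] Π j, A j :=
    AlgEquiv.ofBijective (AlgHom.pi (fun j => Ideal.Quotient.mkₐ R' (Ideal.span {1 - E j})))
      hE.bijective_pi
  refine ⟨A, fun j => inferInstance, fun j => inferInstance, ec.symm.trans e₀, ?_⟩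
  intro j
  refine ⟨inferInstance, ?_⟩
  obtain ⟨Q, hQp, hQl, hEQ, huniq⟩ := hprimes j
  have hzero : E j * (1 - E j) = 0 := by
    rw [mul_sub, mul_one, (hE.idem j).eq, sub_self]
  have h1E : 1 - E j ∈ Q :=
    (hQp.mem_or_mem (hzero ▸ Q.zero_mem)).resolve_left hEQ
  let mk : T →+* A j := Ideal.Quotient.mk (Ideal.span {1 - E j})
  have hmk : Function.Surjective mk := Ideal.Quotient.mk_surjective
  have hker : RingHom.ker mk ≤ Q := by
    rw [Ideal.mk_ker, Ideal.span_le]
    exact Set.singleton_subset_iff.mpr h1E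
  have hr₀prime : (Q.map mk).IsPrime := Ideal.map_isPrime_of_surjective hmk hker
  have hcomap : (Q.map mk).comap mk = Q := by
    rw [Ideal.comap_map_of_surjective mk hmk, ← RingHom.ker_eq_comap_bot]
    exact sup_eq_left.mpr hker
  have halg : algebraMap R' (A j) = mk.comp (algebraMap R' T) := rfl
  have hr : (Q.map mk).comap (algebraMap R' (A j)) = P := by
    rw [halg, ← Ideal.comap_comap, hcomap]
    exact (hQl.over).symm
  refine ⟨⟨Q.map mk, hr₀prime⟩, hr, ?_, ?_⟩
  · intro r' hr'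
    have hQ'l : (r'.asIdeal.comap mk).LiesOver P := ⟨by
      rw [Ideal.under, Ideal.comap_comap, ← halg, hr']⟩
    have hEQ' : E j ∉ r'.asIdeal.comap mk := by
      intro h
      have h1 : 1 - E j ∈ r'.asIdeal.comap mk := by
        rw [Ideal.mem_comap]
        have : mk (1 - E j) = 0 :=
          Ideal.Quotient.eq_zero_iff_mem.mpr (Ideal.mem_span_singleton_self _)
        rw [this]
        exact r'.asIdeal.zero_mem
      have : (1 : T) ∈ r'.asIdeal.comap mk := by
        have := (r'.asIdeal.comap mk).add_mem h h1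
        simpa using this
      exact (Ideal.comap_isPrime mk r'.asIdeal).ne_top ((Ideal.eq_top_iff_one _).mpr this)
    have := huniq _ (Ideal.comap_isPrime mk r'.asIdeal) hQ'l hEQ'
    apply PrimeSpectrum.ext
    apply Ideal.comap_injective_of_surjective mk hmk
    rw [this, hcomap]
  · let π : R' ⊗[R] S →ₐ[R'] A j :=
      (Ideal.Quotient.mkₐ R' (Ideal.span {1 - E j})).comp ec.symm.toAlgHom
    have hπ : Function.Surjective π := hmk.comp ec.symm.surjective
    haveI := hr₀prime
    exact isPurelyInseparable_of_surjective_tensor π hπ p P (Q.map mk) hP hr.symm hsplit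

end Groth.Agent.H78.IntSplit
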